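import Groth.Agent.EulerLib.SupportVanishing
import Groth.Agent.EulerLib.Additive
import Groth.Agent.Coherent.ProjSpaceFinite

/-!
# Trace pairings on top cohomology

For a module `ω` with a functional `t` on `H^d(ω)`, the map `φ ↦ t ∘ H^d(φ)` and the module `F`
being represented (`Rep`).
-/

set_option autoImplicit false
set_option linter.style.haveILetI false

universe u

open CategoryTheory CategoryTheory.Limits AlgebraicGeometry Opposite TopologicalSpace
open Groth.Agent.Coherent Groth.Agent.EulerLib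

namespace Groth.Agent.SerreDualA

variable (k : Type u) [CommRing k] {X : Scheme.{u}} [X.Over (Spec (CommRingCat.of k))]

/-- The group structure of `HH`, as a constant: the kernel identifies the instance path only once. -/
@[reducible] noncomputable def hhAddCommGroup (M : X.Modules) (q : ℕ) : AddCommGroup (Coh.HH X M q) :=
  inferInstance

attribute [local instance] hhAddCommGroup

/-- The module structure of `HH`, as a constant. -/
@[reducible] noncomputable def hhModule (M : X.Modules) (q : ℕ) : Module k (Coh.HH X M q) :=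
  Coh.moduleOver k X M q

attribute [local instance] hhModule

/-- `HHBaseEquiv`, for the instances above. -/
noncomputable def hBE (M : X.Modules) (q : ℕ) :
    Coh.HH X M q ≃ₗ[k] HA (baseHom k X) M (⊤ : X.Opens) q := HHBaseEquiv k M q

/-- The comparison with `HA` is natural. -/
theorem hhBaseEquiv_natural {M N : X.Modules} (f : M ⟶ N) (q : ℕ) (x : Coh.HH X M q) :
    HHBaseEquiv k N q (Sheaf.H.map ((SheafOfModules.toSheaf X.ringCatSheaf).map f) q x) =
      postA (baseHom k X) f ⊤ q (HHBaseEquiv k M q x) := by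
  obtain ⟨z, rfl⟩ := (H'TopEquiv (X := X.toTopCat) (Coh.toAb M) q).surjective x
  refine (congrArg (H'TopEquiv (X := X.toTopCat) (Coh.toAb N) q).symm
    (H'TopEquiv_naturality (X := X.toTopCat) ((toAbFunctor X).map f) q z).symm).trans ?_
  refine ((H'TopEquiv (X := X.toTopCat) (Coh.toAb N) q).symm_apply_apply _).trans ?_
  exact congrArg (postHM f q (⊤ : X.Opens))
    ((H'TopEquiv (X := X.toTopCat) (Coh.toAb M) q).symm_apply_apply z).symm

/-- The comparison `hBE` is natural. -/
theorem hBE_natural {M N : X.Modules} (f : M ⟶ N) (q : ℕ) (x : Coh.HH X M q) :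
    hBE k N q (Sheaf.H.map ((SheafOfModules.toSheaf X.ringCatSheaf).map f) q x) =
      postA (baseHom k X) f ⊤ q (hBE k M q x) :=
  hhBaseEquiv_natural k f q x

/-- `H^q(f)`, linearly over the base field. -/
noncomputable def hmap {M N : X.Modules} (f : M ⟶ N) (q : ℕ) : Coh.HH X M q →ₗ[k] Coh.HH X N q :=
  (hBE k N q).symm.toLinearMap ∘ₗ postA (baseHom k X) f ⊤ q ∘ₗ (hBE k M q).toLinearMap

theorem hmap_eq {M N : X.Modules} (f : M ⟶ N) (q : ℕ) (x : Coh.HH X M q) :
    hmap k f q x = Sheaf.H.map ((SheafOfModules.toSheaf X.ringCatSheaf).map f) q x := by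
  apply (hBE k N q).injective
  rw [hBE_natural]
  exact LinearEquiv.apply_symm_apply _ _

theorem hmap_id (M : X.Modules) (q : ℕ) : hmap k (𝟙 M) q = LinearMap.id := LinearMap.ext fun x =>
  (congrArg (hBE k M q).symm (postHM_id M q ⊤ (hBE k M q x))).trans
    ((hBE k M q).symm_apply_apply x)

theorem hmap_comp {M N P : X.Modules} (f : M ⟶ N) (g : N ⟶ P) (q : ℕ) :
    hmap k (f ≫ g) q = hmap k g q ∘ₗ hmap k f q := LinearMap.ext fun x => by
  refine (congrArg (hBE k P q).symm (postHM_comp f g q ⊤ (hBE k M q x))).trans ?_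
  exact congrArg (fun z => (hBE k P q).symm (postA (baseHom k X) g ⊤ q z))
    ((hBE k N q).apply_symm_apply _).symm

theorem hmap_add {M N : X.Modules} (f g : M ⟶ N) (q : ℕ) :
    hmap k (f + g) q = hmap k f q + hmap k g q := LinearMap.ext fun x =>
  (congrArg (hBE k N q).symm (postHM_add f g q ⊤ (hBE k M q x))).trans
    ((hBE k N q).symm.map_add _ _)

theorem hmap_zero (M N : X.Modules) (q : ℕ) : hmap k (0 : M ⟶ N) q = 0 := by
  have h := hmap_add k (0 : M ⟶ N) 0 q
  rw [add_zero] at h
  exact add_eq_left.1 h.symm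

theorem exact_hmap {S : ShortComplex X.Modules} (hS : S.ShortExact) (q : ℕ) :
    Function.Exact (hmap k S.f q) (hmap k S.g q) := fun x => by
  simp only [hmap, LinearMap.coe_comp, LinearEquiv.coe_coe, Function.comp_apply, LinearEquiv.map_eq_zero_iff]
  rw [exact_postA (baseHom k X) hS ⊤ q (hBE k S.X₂ q x)]
  constructor
  · rintro ⟨y, hy⟩
    exact ⟨(hBE k S.X₁ q).symm y, by
      simp only [Function.comp_apply, LinearEquiv.apply_symm_apply, hy, LinearEquiv.symm_apply_apply]⟩
  · rintro ⟨y, hy⟩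
    exact ⟨hBE k S.X₁ q y, by rw [← hy]; simp only [Function.comp_apply, LinearEquiv.apply_symm_apply]⟩

theorem hmap_surjective_of_shortExact {S : ShortComplex X.Modules} (hS : S.ShortExact) (q : ℕ)
    (h : Subsingleton (Coh.HH X S.X₁ (q + 1))) : Function.Surjective (hmap k S.g q) := fun z => by
  haveI : Subsingleton (HA (baseHom k X) S.X₁ (⊤ : X.Opens) (q + 1)) :=
    (hBE k S.X₁ (q + 1)).symm.toEquiv.subsingleton
  obtain ⟨y, hy⟩ := (exact_postA_deltaA (baseHom k X) hS ⊤ q (hBE k S.X₃ q z)).1 (Subsingleton.elim _ _)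
  refine ⟨(hBE k S.X₂ q).symm y, ?_⟩
  simp only [hmap, LinearMap.coe_comp, LinearEquiv.coe_coe, Function.comp_apply,
    LinearEquiv.apply_symm_apply, hy, LinearEquiv.symm_apply_apply]

theorem hmap_injective_of_shortExact {S : ShortComplex X.Modules} (hS : S.ShortExact) (q : ℕ)
    (h : Subsingleton (Coh.HH X S.X₃ q)) : Function.Injective (hmap k S.f (q + 1)) := by
  haveI : Subsingleton (HA (baseHom k X) S.X₃ (⊤ : X.Opens) q) :=
    (hBE k S.X₃ q).symm.toEquiv.subsingleton
  refine (injective_iff_map_eq_zero _).2 fun x hx => ?_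
  simp only [hmap, LinearMap.coe_comp, LinearEquiv.coe_coe, Function.comp_apply, LinearEquiv.map_eq_zero_iff] at hx
  obtain ⟨y, hy⟩ := (exact_deltaA_postA (baseHom k X) hS ⊤ q _).1 hx
  rw [Subsingleton.elim y 0, map_zero] at hy
  exact (hBE k S.X₁ (q + 1)).map_eq_zero_iff.1 hy.symm

attribute [irreducible] hmap

variable {k}
variable {d : ℕ} {ω : X.Modules} (t : Coh.HH X ω d →ₗ[k] k)

/-- `φ ↦ t ∘ H^d(φ)`. -/
noncomputable def theta (F : X.Modules) : (F ⟶ ω) →+ Module.Dual k (Coh.HH X F d) where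
  toFun φ := t ∘ₗ hmap k φ d
  map_zero' := by rw [hmap_zero]; exact LinearMap.comp_zero _
  map_add' φ ψ := by rw [hmap_add]; exact LinearMap.comp_add _ _ _

theorem theta_apply {F : X.Modules} (φ : F ⟶ ω) (x : Coh.HH X F d) :
    theta t F φ x = t (Sheaf.H.map ((SheafOfModules.toSheaf X.ringCatSheaf).map φ) d x) :=
  congrArg t (hmap_eq k φ d x)

theorem theta_comp {F G : X.Modules} (g : F ⟶ G) (φ : G ⟶ ω) :
    theta t F (g ≫ φ) = theta t G φ ∘ₗ hmap k g d := by
  show t ∘ₗ hmap k (g ≫ φ) d = (t ∘ₗ hmap k φ d) ∘ₗ hmap k g d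
  rw [hmap_comp, LinearMap.comp_assoc]

/-- `F` is represented by `(ω, t)`. -/
def Rep (F : X.Modules) : Prop := Function.Bijective (theta t F)

theorem rep_iff (F : X.Modules) : Rep t F ↔ ∀ ψ : Coh.HH X F d →ₗ[k] k, ∃! φ : F ⟶ ω,
    ∀ x, ψ x = t (Sheaf.H.map ((SheafOfModules.toSheaf X.ringCatSheaf).map φ) d x) := by
  rw [Rep, Function.bijective_iff_existsUnique]
  refine forall_congr' fun ψ => existsUnique_congr fun φ => ?_
  constructor
  · rintro rfl x; exact theta_apply t φ x
  · intro h; exact LinearMap.ext fun x => (theta_apply t φ x).trans (h x).symm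

theorem Rep.of_iso {F F' : X.Modules} (e : F ≅ F') (h : Rep t F) : Rep t F' := by
  refine ⟨fun a b hab => ?_, fun ψ => ?_⟩
  · have h' : theta t F (e.hom ≫ a) = theta t F (e.hom ≫ b) := by rw [theta_comp, theta_comp, hab]
    exact (cancel_epi e.hom).1 (h.1 h')
  · obtain ⟨φ, hφ⟩ := h.2 (ψ ∘ₗ hmap k e.hom d)
    refine ⟨e.inv ≫ φ, ?_⟩
    rw [theta_comp, hφ, LinearMap.comp_assoc, ← hmap_comp, e.inv_hom_id, hmap_id, LinearMap.comp_id]

attribute [local instance] hasFiniteBiproducts in
theorem Rep.biproduct {ι : Type} [Fintype ι] {G : ι → X.Modules} (h : ∀ i, Rep t (G i)) :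
    Rep t (⨁ G) := by
  classical
  refine ⟨fun a b hab => biproduct.hom_ext' _ _ fun i => (h i).1 ?_, fun ψ => ?_⟩
  · rw [theta_comp, theta_comp, hab]
  choose φ hφ using fun i => (h i).2 (ψ ∘ₗ hmap k (biproduct.ι G i) d)
  refine ⟨biproduct.desc φ, ?_⟩
  have key : ∀ s : Finset ι, hmap k (∑ i ∈ s, biproduct.π G i ≫ biproduct.ι G i) d =
      ∑ i ∈ s, hmap k (biproduct.ι G i) d ∘ₗ hmap k (biproduct.π G i) d := fun s => by
    induction s using Finset.induction with
    | empty => rw [Finset.sum_empty, Finset.sum_empty, hmap_zero]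
    | insert a s ha ih => rw [Finset.sum_insert ha, Finset.sum_insert ha, hmap_add, ih, hmap_comp]
  have hid := key Finset.univ
  rw [biproduct.total, hmap_id] at hid
  conv_lhs => rw [← LinearMap.comp_id (theta t (⨁ G) (biproduct.desc φ)), hid]
  conv_rhs => rw [← LinearMap.comp_id ψ, hid]
  refine LinearMap.ext fun x => ?_
  simp only [LinearMap.comp_apply, LinearMap.sum_apply, map_sum]
  refine Finset.sum_congr rfl fun i _ => ?_
  have hi := LinearMap.congr_fun (hφ i) (hmap k (biproduct.π G i) d x)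
  rw [← biproduct.ι_desc φ i, theta_comp] at hi
  exact hi

/-- Injectivity passes to quotients. -/
theorem theta_injective_of_epi {E F : X.Modules} (p : E ⟶ F) [Epi p]
    (h : Function.Injective (theta t E)) : Function.Injective (theta t F) := fun a b hab => by
  refine (cancel_epi p).1 (h ?_)
  rw [theta_comp, theta_comp, hab]

/-- Representability of quotients. -/
theorem Rep.of_shortExact {S : ShortComplex X.Modules} (hS : S.ShortExact)
    (h₁ : Function.Injective (theta t S.X₁)) (h₂ : Rep t S.X₂)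
    (hv : Subsingleton (Coh.HH X S.X₁ (d + 1))) : Rep t S.X₃ := by
  haveI := hS.epi_g
  refine ⟨theta_injective_of_epi t S.g h₂.1, fun ψ => ?_⟩
  obtain ⟨χ, hχ⟩ := h₂.2 (ψ ∘ₗ hmap k S.g d)
  have h0 : S.f ≫ χ = 0 := h₁ (by
    rw [theta_comp, hχ, map_zero, LinearMap.comp_assoc, ← hmap_comp, S.zero, hmap_zero, LinearMap.comp_zero])
  let φ : S.X₃ ⟶ ω := hS.exact.desc χ h0
  refine ⟨φ, LinearMap.ext fun z => ?_⟩
  obtain ⟨y, rfl⟩ := hmap_surjective_of_shortExact k hS d hv z
  have e := LinearMap.congr_fun hχ y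
  rw [← hS.exact.g_desc χ h0, theta_comp] at e
  exact e


end Groth.Agent.SerreDualA
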