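import Groth.Agent.SerreDualA.MonoNat
import Groth.Agent.SerreDualA.Trace
import Groth.Agent.SerreDual.ProjRep

/-!
# Top cohomology of twisting sheaves on projective space over a ring: the perfect pairing
-/

set_option autoImplicit false
set_option linter.style.haveILetI false
set_option linter.unusedSectionVars false

universe u

open CategoryTheory CategoryTheory.Limits AlgebraicGeometry Opposite TopologicalSpace CategoryTheory.Abelian
open Groth.Agent.Coherent
open Groth.Agent.SerreDual (mulHom mulHom_app_val eq_zero_of_gens)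

namespace Groth.Agent.SerreDualA

attribute [local instance] hhAddCommGroup hhModule

variable {n : ℕ} {R : Type u} [CommRing R] {d e : ℤ}

local notation "P" => CohB1.ProjSpace n R
local notation "𝒫" => CohB1.polyGrading n R
local notation "O'(" d ")" => Twist.twistProjSpace n R d

theorem card_univ_succ : (Finset.univ : Finset (Fin (n + 1))).card = n + 1 := by simp

/-- The parametrisation of top cohomology by monomials. -/
noncomputable def cls (d : ℤ) : (Expo n d →₀ R) →+ Coh.HH P (O'(d)) n :=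
  (HHTopEquiv (X := P) (O'(d)) n).symm.toAddMonoidHom.comp
    ((resH _ n (MonoData.top_le_opn sup_DX)).comp
      ((topData (projSpaceMonoData n R d) n Finset.univ card_univ_succ).Φ ∅))

theorem all_sub (m : Expo n d →₀ R) : ∀ x ∈ m.support, negSet x ⊆ Finset.univ ∪ ∅ := fun x _ => by simp

theorem cls_smul (r : R) (m : Expo n d →₀ R) : cls d (r • m) = r • cls d m := by
  have h := (topData (projSpaceMonoData n R d) n Finset.univ card_univ_succ).linear r m (all_sub m)
  show (HHTopEquiv (X := P) (O'(d)) n).symm (resH _ n (MonoData.top_le_opn sup_DX)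
    ((topData (projSpaceMonoData n R d) n Finset.univ card_univ_succ).Φ ∅ (r • m))) = _
  refine Eq.trans ?_ (smul_HH_eq (X := P) (O'(d)) n (Coh.toGlobal (CohB1.ProjSpace.toSpec n R) r) _).symm
  refine congrArg _ ?_
  refine (congrArg (resH _ n (MonoData.top_le_opn sup_DX)) h.symm).trans ?_
  exact resH_postH _ _ _ _

theorem cls_surjective : Function.Surjective (cls (n := n) (R := R) d) := fun x => by
  let y := HHTopEquiv (X := P) (O'(d)) n x
  obtain ⟨m, -, hm⟩ := (topData (projSpaceMonoData n R d) n Finset.univ card_univ_succ).surj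
    (Finset.disjoint_empty_right _) (resH _ n le_top y) (by
      rcases Nat.eq_zero_or_pos n with h | h
      · exact Or.inr (by simp [h])
      · exact Or.inl h)
  refine ⟨m, ?_⟩
  show (HHTopEquiv (X := P) (O'(d)) n).symm _ = x
  rw [AddEquiv.symm_apply_eq]
  exact (congrArg (resH _ n (MonoData.top_le_opn sup_DX)) hm).trans (MonoData.resH_isoOf _ _ _)

theorem cls_eq_zero {m : Expo n d →₀ R} (h : cls d m = 0) {x : Expo n d} (hx : negSet x = Finset.univ) :
    m x = 0 := by
  by_contra hne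
  have h0 : (topData (projSpaceMonoData n R d) n Finset.univ card_univ_succ).Φ ∅ m = 0 := by
    refine (MonoData.resH_eq_zero_iff (MonoData.top_le_opn sup_DX) le_top _).1 ?_
    exact (HHTopEquiv (X := P) (O'(d)) n).symm.map_eq_zero_iff.1 h
  exact ((topData (projSpaceMonoData n R d) n Finset.univ card_univ_succ).ker m (Finset.disjoint_empty_right _)
    (all_sub m)).1 h0 x (Finsupp.mem_support_iff.2 hne) |>.2 hx.ge

theorem cls_of_support {m : Expo n d →₀ R} (h : ∀ x ∈ m.support, negSet x ≠ Finset.univ) (hd : d < 0) :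
    cls d m = 0 := by
  have hΦ : (topData (projSpaceMonoData n R d) n Finset.univ card_univ_succ).Φ ∅ m = 0 := by
    refine ((topData (projSpaceMonoData n R d) n Finset.univ card_univ_succ).ker m (Finset.disjoint_empty_right _)
      (all_sub m)).2 fun x hx => ⟨?_, fun hs => h x hx (Finset.univ_subset_iff.1 hs)⟩
    rcases Nat.eq_zero_or_pos n with rfl | hn
    · refine absurd ?_ (h x hx)
      refine Finset.eq_univ_of_forall fun i => mem_negSet.2 ?_
      have := x.2
      rw [Fin.sum_univ_one] at this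
      rw [Fin.fin_one_eq_zero i]
      omega
    · exact hn
  show (HHTopEquiv (X := P) (O'(d)) n).symm (resH _ n (MonoData.top_le_opn sup_DX)
    ((topData (projSpaceMonoData n R d) n Finset.univ card_univ_succ).Φ ∅ m)) = 0
  exact (congrArg (fun z => (HHTopEquiv (X := P) (O'(d)) n).symm (resH _ n (MonoData.top_le_opn sup_DX) z)) hΦ).trans
    ((congrArg _ (map_zero _)).trans (map_zero _))

/-- Addition of an exponent. -/
def shiftE (μ : Fin (n + 1) →₀ ℕ) (h : d + μ.degree = e) (x : Expo n d) : Expo n e :=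
  ⟨fun i => x.1 i + μ i, by
    rw [Finset.sum_add_distrib, x.2, ← Nat.cast_sum, ← degree_eq_sum]; exact h⟩

theorem negSet_shiftE (μ : Fin (n + 1) →₀ ℕ) (h : d + μ.degree = e) (x : Expo n d) :
    negSet (shiftE μ h x) ⊆ negSet x := fun i hi => by
  rw [mem_negSet] at hi ⊢
  simp only [shiftE] at hi
  omega

/-- The effect of a monomial on exponents. -/
noncomputable def shiftL (μ : Fin (n + 1) →₀ ℕ) (r : R) (h : d + μ.degree = e) :
    (Expo n d →₀ R) →+ (Expo n e →₀ R) :=
  (DistribSMul.toAddMonoidHom _ r).comp (Finsupp.mapDomain.addMonoidHom (shiftE μ h))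

theorem shiftL_single (μ : Fin (n + 1) →₀ ℕ) (r : R) (h : d + μ.degree = e) (x : Expo n d) (c : R) :
    shiftL μ r h (Finsupp.single x c) = Finsupp.single (shiftE μ h x) (r * c) := by
  show r • Finsupp.mapDomain (shiftE μ h) (Finsupp.single x c) = _
  rw [Finsupp.mapDomain_single, Finsupp.smul_single, smul_eq_mul]

theorem support_shiftL {μ : Fin (n + 1) →₀ ℕ} {r : R} {h : d + μ.degree = e} {A : Finset (Fin (n + 1))}
    {m : Expo n d →₀ R} (hm : ∀ x ∈ m.support, negSet x ⊆ A) :
    ∀ y ∈ (shiftL μ r h m).support, negSet y ⊆ A := fun y hy => by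
  classical
  have hy' := Finsupp.support_smul hy
  obtain ⟨x, hx, rfl⟩ := Finset.mem_image.1 (Finsupp.mapDomain_support hy')
  exact (negSet_shiftE μ h x).trans (hm x hx)

theorem evalSec_monParam_single {A : Finset (Fin (n + 1))} (x : Expo n d) (c : R) (hx : negSet x ⊆ A)
    (p : (A.inf (DX n R) : Opens _)) :
    evalSec p (monParam d A (Finsupp.single x c)) = evalSec p (monSec d A x hx c) := by
  rw [monParam, Finsupp.liftAddHom_apply_single, dif_pos hx]

theorem mk_mul_evalSec (μ : Fin (n + 1) →₀ ℕ) (r : R) (h : d + μ.degree = e) {A : Finset (Fin (n + 1))}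
    (m : Expo n d →₀ R) (hm : ∀ x ∈ m.support, negSet x ⊆ A) (p : (A.inf (DX n R) : Opens _)) :
    Localization.mk (MvPolynomial.monomial μ r) 1 * evalSec p (monParam d A m) =
      evalSec p (monParam e A (shiftL μ r h m)) := by
  classical
  conv_lhs => rw [← Finsupp.sum_single m]
  conv_rhs => rw [← Finsupp.sum_single m]
  rw [Finsupp.sum, map_sum, map_sum, map_sum, map_sum, map_sum, Finset.mul_sum]
  refine Finset.sum_congr rfl fun x hx => ?_
  rw [shiftL_single, evalSec_monParam_single x _ (hm x hx),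
    evalSec_monParam_single _ _ ((negSet_shiftE μ h x).trans (hm x hx))]
  show Localization.mk (MvPolynomial.monomial μ r) 1 * Localization.mk (MvPolynomial.monomial (posExp x) (m x)) _ =
    Localization.mk (MvPolynomial.monomial (posExp (shiftE μ h x)) (r * m x)) _
  rw [Localization.mk_mul]
  refine Localization.mk_eq_mk_iff.2 (Localization.r_iff_exists.2 ⟨1, ?_⟩)
  simp only [OneMemClass.coe_one, one_mul, Submonoid.coe_mul, MvPolynomial.monomial_mul]
  congr 2
  ext i
  simp only [Finsupp.add_apply, posExp_apply, negExp_apply, shiftE]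
  omega

/-- The monomial of given exponent, in its degree. -/
noncomputable def mono (μ : Fin (n + 1) →₀ ℕ) (r : R) {j : ℕ} (hj : μ.degree = j) : ↥(CohB1.polyGrading n R j) :=
  ⟨MvPolynomial.monomial μ r, by have := monomial_mem_polyGrading μ r; rwa [hj] at this⟩

/-- Multiplication by a monomial. -/
noncomputable def mulMono (μ : Fin (n + 1) →₀ ℕ) (r : R) (h : d + μ.degree = e) : O'(d) ⟶ O'(e) :=
  mulHom (𝒜 := 𝒫) (mono μ r rfl) h

theorem mulMono_zero (μ : Fin (n + 1) →₀ ℕ) (h : d + μ.degree = e) : mulMono μ (0 : R) h = 0 := by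
  refine Scheme.Modules.hom_ext _ _ fun U => ConcreteCategory.hom_ext _ _ fun s => sectN_ext (d := e) fun x => ?_
  refine (mulHom_app_val _ h U s x).trans ?_
  show Localization.mk (MvPolynomial.monomial μ (0 : R)) 1 * _ = 0
  rw [map_zero, Localization.mk_zero, zero_mul]

theorem mulMono_add (μ : Fin (n + 1) →₀ ℕ) (h : d + μ.degree = e) (a b : R) :
    mulMono μ (a + b) h = mulMono μ a h + mulMono μ b h :=
  (congrArg (fun z => mulHom (𝒜 := 𝒫) z h) (Subtype.ext ((MvPolynomial.monomial μ).map_add a b) :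
    mono μ (a + b) rfl = mono μ a rfl + mono μ b rfl)).trans (SerreDual.mulHom_add _ _ h)

theorem map_cls (μ : Fin (n + 1) →₀ ℕ) (r : R) (h : d + μ.degree = e) (m : Expo n d →₀ R) :
    hmap R (mulMono μ r h) n (cls d m) = cls e (shiftL μ r h m) := by
  let ψ := (toAbFunctor P).map (mulMono μ r h)
  have hψ : ∀ A : Finset (Fin (n + 1)), A.Nonempty → ∀ m : Expo n d →₀ R, (∀ x ∈ m.support, negSet x ⊆ A) →
      postH (X := (P).toTopCat) ψ 0 (A.inf fun i => (DX n R i : (P).Opens))
        ((projSpaceMonoData n R d).θ A m) = (projSpaceMonoData n R e).θ A (shiftL μ r h m) := by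
    intro A _ m hm
    refine (secH (X := (P).toTopCat) _ _).injective ?_
    refine (secH_postH (X := (P).toTopCat) _ _ _).trans ?_
    refine (congrArg _ (AddEquiv.apply_symm_apply _ _)).trans ?_
    refine Eq.trans ?_ (AddEquiv.apply_symm_apply _ _).symm
    refine sectN_ext (d := e) fun x => ?_
    refine (mulHom_app_val (mono μ r rfl) h _ _ x).trans ?_
    exact mk_mul_evalSec μ r h m hm x
  rw [hmap_eq]
  apply (HHTopEquiv (X := P) (O'(e)) n).injective
  refine Eq.trans (?_ : _ = postHM (mulMono μ r h) n ⊤ (HHTopEquiv (X := P) (O'(d)) n (cls d m))) ?_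
  · obtain ⟨z, hz⟩ := (H'TopEquiv (X := (P).toTopCat) (Coh.toAb (O'(d))) n).surjective (cls d m)
    rw [← hz]
    refine (congrArg (H'TopEquiv (X := (P).toTopCat) (Coh.toAb (O'(e))) n).symm
      (H'TopEquiv_naturality (X := (P).toTopCat) ψ n z).symm).trans ?_
    refine ((H'TopEquiv (X := (P).toTopCat) (Coh.toAb (O'(e))) n).symm_apply_apply _).trans ?_
    exact congrArg (postHM (mulMono μ r h) n (⊤ : (P).Opens))
      ((H'TopEquiv (X := (P).toTopCat) (Coh.toAb (O'(d))) n).symm_apply_apply z).symm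
  · refine (congrArg (postHM (mulMono μ r h) n ⊤) ((HHTopEquiv (X := P) (O'(d)) n).apply_symm_apply _)).trans ?_
    refine Eq.trans ?_ ((HHTopEquiv (X := P) (O'(e)) n).apply_symm_apply _).symm
    refine (resH_postH (X := (P).toTopCat) ψ n _ _).symm.trans ?_
    exact congrArg (resH _ n _) (topData_natural (projSpaceMonoData n R d) (projSpaceMonoData n R e) ψ
      (shiftL μ r h) hψ n Finset.univ card_univ_succ ∅ m (all_sub m))

/-- The exponent `-1, …, -1`. -/
def negOne : Expo n (-((n : ℤ) + 1)) := ⟨fun _ => -1, by simp⟩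

theorem negSet_negOne : negSet (negOne (n := n)) = Finset.univ :=
  Finset.eq_univ_of_forall fun i => mem_negSet.2 (by simp [negOne])

theorem eq_negOne {x : Expo n (-((n : ℤ) + 1))} (hx : negSet x = Finset.univ) : x = negOne := by
  have h1 : ∀ i, x.1 i ≤ -1 := fun i => by
    have : x.1 i < 0 := mem_negSet.1 (hx.ge (Finset.mem_univ i))
    omega
  have h2 : ∑ i, (-1 - x.1 i) = 0 := by rw [Finset.sum_sub_distrib, x.2]; simp
  have h3 := (Finset.sum_eq_zero_iff_of_nonneg fun i _ => by have := h1 i; omega).1 h2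
  exact Subtype.ext (funext fun i => by have := h3 i (Finset.mem_univ i); show x.1 i = -1; omega)

theorem exists_trace : ∃ t : Coh.HH P (O'(-((n : ℤ) + 1))) n →ₗ[R] R,
    (∀ m : Expo n (-((n : ℤ) + 1)) →₀ R, t (cls _ m) = m negOne) ∧ Function.Bijective t := by
  classical
  choose lift hlift using cls_surjective (n := n) (R := R) (d := -((n : ℤ) + 1))
  have hval : ∀ m : Expo n (-((n : ℤ) + 1)) →₀ R, lift (cls _ m) negOne = m negOne := fun m => by
    refine sub_eq_zero.1 ?_
    rw [← Finsupp.sub_apply]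
    exact cls_eq_zero (by rw [map_sub, hlift, sub_self]) negSet_negOne
  let t : Coh.HH P (O'(-((n : ℤ) + 1))) n →ₗ[R] R :=
    { toFun := fun z => lift z negOne
      map_add' := fun a b => by
        conv_lhs => rw [← hlift a, ← hlift b, ← map_add, hval]
        rfl
      map_smul' := fun c a => by
        conv_lhs => rw [← hlift a, ← cls_smul, hval]
        rfl }
  refine ⟨t, hval, fun a b hab => ?_, fun c => ⟨cls _ (Finsupp.single negOne c), (hval _).trans Finsupp.single_eq_same⟩⟩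
  rw [← hlift a, ← hlift b, ← sub_eq_zero, ← map_sub]
  refine cls_of_support (fun x hx h => Finsupp.mem_support_iff.1 hx ?_) (by omega)
  rw [eq_negOne h, Finsupp.sub_apply]
  exact sub_eq_zero.2 hab

instance finite_degree (j : ℕ) : Finite {μ : Fin (n + 1) →₀ ℕ // μ.degree = j} :=
  Finite.of_injective (fun μ (i : Fin (n + 1)) => (⟨μ.1 i, Nat.lt_succ_of_le (le_trans (μ.1.le_degree i) μ.2.le)⟩ : Fin (j + 1)))
    fun _ _ h => Subtype.ext (Finsupp.ext fun i => congrArg Fin.val (congrFun h i))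

theorem inf_singleton_DX (i : Fin (n + 1)) : ({i} : Finset (Fin (n + 1))).inf (DX n R) = DX n R i :=
  Finset.inf_singleton

theorem inf_singleton_le_DP (i : Fin (n + 1)) :
    (({i} : Finset (Fin (n + 1))).inf (DX n R) : (P).Opens) ≤ DP n R i := (inf_singleton_DX i).le

/-- The tautological section of a negative twist on a chart. -/
noncomputable def tauP (N : ℕ) (i : Fin (n + 1)) : Γ(O'(-(N : ℤ)), DP n R i) :=
  tauSec (ProjLib.X_mem_polyGrading n R i) (-(N : ℤ)) (DX n R i) le_rfl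

/-- The image of the tautological section. -/
noncomputable def gsec {N : ℕ} (φ : O'(-(N : ℤ)) ⟶ O'(e)) (i : Fin (n + 1)) :
    TSec R e (({i} : Finset (Fin (n + 1))).inf (DX n R)) :=
  resM (O'(e)) (inf_singleton_le_DP i) (φ.app (DP n R i) (tauP N i))

theorem gsec_val {N : ℕ} (φ : O'(-(N : ℤ)) ⟶ O'(e)) (i : Fin (n + 1)) (x : ProjectiveSpectrum.top 𝒫)
    (hx : x ∈ DX n R i) (hx' : x ∈ ({i} : Finset (Fin (n + 1))).inf (DX n R)) :
    evalSec (⟨x, hx'⟩ : (({i} : Finset (Fin (n + 1))).inf (DX n R) : Opens _)) (gsec φ i) =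
      ((show Twist.sectN (𝒜 := 𝒫) e (op (DX n R i)) from φ.app (DP n R i) (tauP N i)).1 ⟨x, hx⟩).1 := rfl

theorem app_tau_rel {N : ℕ} (φ : O'(-(N : ℤ)) ⟶ O'(e)) (i l : Fin (n + 1)) :
    resM (O'(e)) (inf_le_left : DP n R i ⊓ DP n R l ≤ DP n R i) (φ.app (DP n R i) (tauP N i)) =
      PicLib.res (inf_le_left : DP n R i ⊓ DP n R l ≤ DP n R i) (ratioP n R i l) ^ N •
        resM (O'(e)) (inf_le_right : DP n R i ⊓ DP n R l ≤ DP n R l) (φ.app (DP n R l) (tauP N l)) :=
  ((app_resM φ (inf_le_left : DP n R i ⊓ DP n R l ≤ DP n R i) (tauP N i)).symm.trans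
    (congrArg (φ.app (DP n R i ⊓ DP n R l)) (tauSec_rel n R N i l))).trans
      ((Scheme.Modules.Hom.app_smul φ _ _).trans (congrArg _ (app_resM φ _ (tauP N l))))

theorem resM_val {d' : ℤ} {U V : Opens (ProjectiveSpectrum.top 𝒫)} (h : V ≤ U) (s : Γ(O'(d'), (U : (P).Opens)))
    (x : ProjectiveSpectrum.top 𝒫) (hx : x ∈ V) :
    ((show Twist.sectN (𝒜 := 𝒫) d' (op V) from
      resM (X := P) (O'(d')) (show (V : (P).Opens) ≤ U from h) s).1 ⟨x, hx⟩).1 =
      ((show Twist.sectN (𝒜 := 𝒫) d' (op U) from s).1 ⟨x, h hx⟩).1 := rfl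

theorem smul_ratio_val {N : ℕ} (i l : Fin (n + 1)) (s : Γ(O'(e), DP n R i ⊓ DP n R l))
    (x : ProjectiveSpectrum.top 𝒫) (hq : x ∈ (DX n R i ⊓ DX n R l : Opens _)) :
    ((show Twist.sectN (𝒜 := 𝒫) e (op (DX n R i ⊓ DX n R l)) from
      PicLib.res (inf_le_left : DP n R i ⊓ DP n R l ≤ DP n R i) (ratioP n R i l) ^ N • s).1 ⟨x, hq⟩).1 =
    Localization.mk (MvPolynomial.X l) ⟨MvPolynomial.X i, hq.1⟩ ^ N *
      ((show Twist.sectN (𝒜 := 𝒫) e (op (DX n R i ⊓ DX n R l)) from s).1 ⟨x, hq⟩).1 := by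
  refine (oSmul_val _ _ ⟨x, hq⟩).trans (congrArg (· * _) ?_)
  let g : Twist.O (𝒜 := 𝒫) (op (DX n R i ⊓ DX n R l : Opens (ProjectiveSpectrum.top 𝒫))) :=
    PicLib.res (inf_le_left : (DX n R i : (P).Opens) ⊓ DX n R l ≤ DX n R i) (ratio n R i l)
  refine Eq.trans ?_ (congrArg (· ^ N) (ratio_val n R i l ⟨x, hq.1⟩))
  show ((g ^ N).1 ⟨x, hq⟩).val = _
  rw [O_pow_val n R g N ⟨x, hq⟩, HomogeneousLocalization.val_pow]
  rfl

theorem gsec_rel {N : ℕ} (φ : O'(-(N : ℤ)) ⟶ O'(e)) (i l : Fin (n + 1)) (x : ProjectiveSpectrum.top 𝒫)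
    (hi : x ∈ DX n R i) (hl : x ∈ DX n R l) (hi' : x ∈ ({i} : Finset (Fin (n + 1))).inf (DX n R))
    (hl' : x ∈ ({l} : Finset (Fin (n + 1))).inf (DX n R)) :
    Localization.mk (MvPolynomial.X i ^ N) 1 *
        evalSec (⟨x, hi'⟩ : (({i} : Finset (Fin (n + 1))).inf (DX n R) : Opens _)) (gsec φ i) =
      Localization.mk (MvPolynomial.X l ^ N) 1 *
        evalSec (⟨x, hl'⟩ : (({l} : Finset (Fin (n + 1))).inf (DX n R) : Opens _)) (gsec φ l) := by
  have hq : x ∈ (DX n R i ⊓ DX n R l : Opens _) := ⟨hi, hl⟩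
  have key : ∀ (a b : Twist.Loc 𝒫 x), a = Localization.mk (MvPolynomial.X l) ⟨MvPolynomial.X i, hi⟩ ^ N * b →
      Localization.mk (MvPolynomial.X i ^ N) 1 * a = Localization.mk (MvPolynomial.X l ^ N) 1 * b := by
    rintro a b rfl
    rw [← mul_assoc, Localization.mk_pow, Localization.mk_mul]
    refine congrArg (· * b) (Localization.mk_eq_mk_iff.2 (Localization.r_iff_exists.2 ⟨1, ?_⟩))
    simp only [Submonoid.coe_one, one_mul, SubmonoidClass.coe_pow]
  refine key _ _ ?_
  rw [gsec_val φ i x hi hi', gsec_val φ l x hl hl']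
  refine (resM_val (U := DX n R i) (V := DX n R i ⊓ DX n R l) inf_le_left _ x hq).symm.trans ?_
  refine (congrArg (fun s : Γ(O'(e), DP n R i ⊓ DP n R l) =>
      ((show Twist.sectN (𝒜 := 𝒫) e (op (DX n R i ⊓ DX n R l)) from s).1 ⟨x, hq⟩).1) (app_tau_rel φ i l)).trans ?_
  refine (smul_ratio_val i l _ x hq).trans ?_
  exact congrArg (_ * ·) (resM_val (U := DX n R l) (V := DX n R i ⊓ DX n R l) inf_le_right _ x hq)

/-- The exponents of `X_i^N` times the image of the tautological section. -/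
theorem exists_expo {N j : ℕ} {e : ℤ} (h : -(N : ℤ) + j = e) (φ : O'(-(N : ℤ)) ⟶ O'(e)) :
    ∃ m : Expo n (j : ℤ) →₀ R, (∀ x ∈ m.support, negSet x = ∅) ∧
      ∀ i (p : (({i} : Finset (Fin (n + 1))).inf (DX n R) : Opens _)),
        Localization.mk (MvPolynomial.X i ^ N) 1 * evalSec p (gsec φ i) = evalSec p (monParam (j : ℤ) {i} m) := by
  classical
  choose m hm hmS using fun i => monParam_surjective (Finset.singleton_nonempty i) (gsec φ i)
  have hsh : ∀ i : Fin (n + 1), e + (Finsupp.single i N).degree = (j : ℤ) := fun i => by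
    rw [Finsupp.degree_single]; omega
  let m' : Fin (n + 1) → (Expo n (j : ℤ) →₀ R) := fun i => shiftL (Finsupp.single i N) 1 (hsh i) (m i)
  have hs : ∀ a, ∀ x ∈ (m' a).support, negSet x ⊆ ({a} : Finset (Fin (n + 1))) := fun a => support_shiftL (hm a)
  have hS : ∀ i (p : (({i} : Finset (Fin (n + 1))).inf (DX n R) : Opens _)),
      Localization.mk (MvPolynomial.X i ^ N) 1 * evalSec p (gsec φ i) = evalSec p (monParam (j : ℤ) {i} (m' i)) :=
    fun i p => by
      rw [← hmS i, ← mk_mul_evalSec _ _ (hsh i) (m i) (hm i) p, MvPolynomial.X_pow_eq_monomial]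
  have hagree : ∀ i l, m' i = m' l := by
    intro i l
    have hi : ({i} : Finset (Fin (n + 1))) ⊆ {i, l} := by simp
    have hl : ({l} : Finset (Fin (n + 1))) ⊆ {i, l} := by simp
    refine sub_eq_zero.1 (monParam_injective (A := {i, l}) (Finset.insert_nonempty _ _) _ (fun x hx => ?_) ?_)
    · rcases Finset.mem_union.1 (Finsupp.support_sub hx) with h' | h'
      exacts [(hs i x h').trans hi, (hs l x h').trans hl]
    rw [map_sub, sub_eq_zero]
    refine sectN_ext (d := (j : ℤ)) fun p => ?_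
    have hpi : p.1 ∈ ({i} : Finset (Fin (n + 1))).inf (DX n R) := Finset.inf_mono (f := DX n R) hi p.2
    have hpl : p.1 ∈ ({l} : Finset (Fin (n + 1))).inf (DX n R) := Finset.inf_mono (f := DX n R) hl p.2
    show evalSec p (monParam (j : ℤ) {i, l} (m' i)) = evalSec p (monParam (j : ℤ) {i, l} (m' l))
    rw [← evalSec_monParam_of_subset hi (m' i) (hs i) p hpi, ← evalSec_monParam_of_subset hl (m' l) (hs l) p hpl,
      ← hS i, ← hS l]
    exact gsec_rel φ i l p.1 ((inf_singleton_DX i).le hpi) ((inf_singleton_DX l).le hpl) hpi hpl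
  refine ⟨m' 0, fun x hx => ?_, fun i p => hagree 0 i ▸ hS i p⟩
  refine Finset.eq_empty_of_forall_notMem fun i hi => ?_
  rcases Nat.eq_zero_or_pos n with rfl | hn
  · have h1 := mem_negSet.1 hi
    have h2 := x.2
    rw [Fin.sum_univ_one] at h2
    rw [Fin.fin_one_eq_zero i] at h1
    omega
  · obtain ⟨l, hl⟩ := Fintype.exists_ne_of_one_lt_card (α := Fin (n + 1)) (by simp; omega) i
    have hx' : x ∈ (m' l).support := by rw [← hagree 0 l]; exact hx
    exact hl (Finset.mem_singleton.1 (hs l x hx' hi)).symm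

theorem mulMono_tau_val {N : ℕ} (μ : Fin (n + 1) →₀ ℕ) (r : R) (h : -(N : ℤ) + μ.degree = e) (i : Fin (n + 1))
    (x : ProjectiveSpectrum.top 𝒫) (hx : x ∈ DX n R i) :
    Localization.mk (MvPolynomial.X i ^ N) 1 *
      ((show Twist.sectN (𝒜 := 𝒫) e (op (DX n R i)) from
        (mulMono μ r h).app (DP n R i) (tauP N i)).1 ⟨x, hx⟩).1 =
      Localization.mk (MvPolynomial.monomial μ r) 1 := by
  refine (congrArg (Localization.mk (MvPolynomial.X i ^ N) 1 * ·) ((mulHom_app_val (mono μ r rfl) h _ _ ⟨x, hx⟩).trans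
    (congrArg (Localization.mk (MvPolynomial.monomial μ r) 1 * ·)
      (tauSec_val (ProjLib.X_mem_polyGrading n R i) (-(N : ℤ)) (DX n R i) le_rfl ⟨x, hx⟩)))).trans ?_
  rw [Localization.mk_mul, Localization.mk_mul]
  refine Localization.mk_eq_mk_iff.2 (Localization.r_iff_exists.2 ⟨1, ?_⟩)
  simp only [Submonoid.coe_mul, Submonoid.coe_one, one_mul, show (-(N : ℤ)).toNat = 0 by omega, pow_zero, mul_one,
    neg_neg, Int.toNat_natCast]

theorem hom_ext_tau {N : ℕ} {φ ψ : O'(-(N : ℤ)) ⟶ O'(e)}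
    (h : ∀ i (x : ProjectiveSpectrum.top 𝒫) (hx : x ∈ DX n R i),
      Localization.mk (MvPolynomial.X i ^ N) 1 *
        ((show Twist.sectN (𝒜 := 𝒫) e (op (DX n R i)) from φ.app (DP n R i) (tauP N i)).1 ⟨x, hx⟩).1 =
      Localization.mk (MvPolynomial.X i ^ N) 1 *
        ((show Twist.sectN (𝒜 := 𝒫) e (op (DX n R i)) from ψ.app (DP n R i) (tauP N i)).1 ⟨x, hx⟩).1) : φ = ψ := by
  refine sub_eq_zero.1 (eq_zero_of_gens _ (fun i => DP n R i) (projPowCover n R).cover (tauP N)
    (fun i V hV => smul_tauSec_bijective (ProjLib.X_mem_polyGrading n R i) (-(N : ℤ)) V hV) fun i => ?_)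
  rw [Scheme.Modules.Hom.sub_app]
  refine sub_eq_zero.2 (sectN_ext (d := e) fun p => ?_)
  have hunit : IsUnit (Localization.mk (MvPolynomial.X i ^ N) 1 : Twist.Loc 𝒫 p.1) := by
    rw [Localization.mk_one_eq_algebraMap]
    exact IsLocalization.map_units _ ⟨_, Submonoid.pow_mem p.1.asHomogeneousIdeal.toIdeal.primeCompl p.2 N⟩
  exact hunit.mul_left_cancel (h i p.1 p.2)

/-- Evaluation at a point on the tautological section. -/
noncomputable def evTau (N : ℕ) (e : ℤ) (i : Fin (n + 1)) (x : ProjectiveSpectrum.top 𝒫) (hx : x ∈ DX n R i) :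
    (O'(-(N : ℤ)) ⟶ O'(e)) →+ Twist.Loc 𝒫 x :=
  AddMonoidHom.mk' (fun ψ => Localization.mk (MvPolynomial.X i ^ N) 1 *
      ((show Twist.sectN (𝒜 := 𝒫) e (op (DX n R i)) from ψ.app (DP n R i) (tauP N i)).1 ⟨x, hx⟩).1)
    fun a b => by rw [Scheme.Modules.Hom.add_app]; exact mul_add _ _ _

theorem monParam_single_eq {j : ℕ} (y : Expo n (j : ℤ)) (c : R) (hy : negSet y = ∅)
    (μ : Fin (n + 1) →₀ ℕ) (hμ : ∀ i, ((μ i : ℕ) : ℤ) = y.1 i) {A : Finset (Fin (n + 1))}
    (p : (A.inf (DX n R) : Opens _)) :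
    evalSec p (monParam (j : ℤ) A (Finsupp.single y c)) = Localization.mk (MvPolynomial.monomial μ c) 1 := by
  rw [evalSec_monParam_single y _ (by rw [hy]; exact Finset.empty_subset _)]
  show Localization.mk (MvPolynomial.monomial (posExp y) c) _ = _
  refine Localization.mk_eq_mk_iff.2 (Localization.r_iff_exists.2 ⟨1, ?_⟩)
  simp only [OneMemClass.coe_one, one_mul, MvPolynomial.monomial_mul]
  congr 2
  ext l
  have h1 := hμ l
  simp only [Finsupp.add_apply, posExp_apply, negExp_apply]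
  omega

theorem evTau_mulMono {N : ℕ} (μ : Fin (n + 1) →₀ ℕ) (r : R) (h : -(N : ℤ) + μ.degree = e) (i : Fin (n + 1))
    (x : ProjectiveSpectrum.top 𝒫) (hx : x ∈ DX n R i) :
    evTau N e i x hx (mulMono μ r h) = Localization.mk (MvPolynomial.monomial μ r) 1 :=
  mulMono_tau_val μ r h i x hx

theorem evTau_eq_gsec {N : ℕ} (φ : O'(-(N : ℤ)) ⟶ O'(e)) (i : Fin (n + 1))
    (x : ProjectiveSpectrum.top 𝒫) (hx : x ∈ DX n R i) (hx' : x ∈ ({i} : Finset (Fin (n + 1))).inf (DX n R)) :
    evTau N e i x hx φ = Localization.mk (MvPolynomial.X i ^ N) 1 *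
      evalSec (⟨x, hx'⟩ : (({i} : Finset (Fin (n + 1))).inf (DX n R) : Opens _)) (gsec φ i) := rfl

/-- `mulMono`, additively in the coefficient. -/
noncomputable def mulMonoHom (μ : Fin (n + 1) →₀ ℕ) (h : d + μ.degree = e) : R →+ (O'(d) ⟶ O'(e)) :=
  AddMonoidHom.mk' (fun r => mulMono μ r h) (mulMono_add μ h)

/-- A morphism from a negative twist is a combination of monomials. -/
theorem exists_mulMono {N j : ℕ} {e : ℤ} (h : -(N : ℤ) + j = e) (φ : O'(-(N : ℤ)) ⟶ O'(e)) :
    ∃ c : {μ : Fin (n + 1) →₀ ℕ // μ.degree = j} →₀ R,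
      φ = c.sum fun μ r => mulMono μ.1 r (by rw [μ.2]; exact h) := by
  classical
  obtain ⟨m, hpos, hS⟩ := exists_expo h φ
  let μOf : {x // x ∈ m.support} → {μ : Fin (n + 1) →₀ ℕ // μ.degree = j} := fun x =>
    negSetEmptyEquiv n j ⟨x.1, hpos x.1 x.2⟩
  have hμ : ∀ (x : {x // x ∈ m.support}) i, (((μOf x).1 i : ℕ) : ℤ) = x.1.1 i := fun x i => by
    show (((x.1.1 i).toNat : ℕ) : ℤ) = _
    refine Int.toNat_of_nonneg (not_lt.1 fun hi => ?_)
    simpa [hpos x.1 x.2] using mem_negSet.2 hi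
  have hdeg : ∀ μ : {μ : Fin (n + 1) →₀ ℕ // μ.degree = j}, -(N : ℤ) + μ.1.degree = e := fun μ => by
    rw [μ.2]; exact h
  refine ⟨∑ x : {x // x ∈ m.support}, Finsupp.single (μOf x) (m x.1), ?_⟩
  have hsum : ((∑ x : {x // x ∈ m.support}, Finsupp.single (μOf x) (m x.1)).sum fun μ r => mulMono μ.1 r (hdeg μ)) =
      ∑ x : {x // x ∈ m.support}, mulMono (μOf x).1 (m x.1) (hdeg _) := by
    refine ((map_sum (Finsupp.liftAddHom fun μ : {μ : Fin (n + 1) →₀ ℕ // μ.degree = j} =>
      mulMonoHom (R := R) μ.1 (hdeg μ)) (fun x => Finsupp.single (μOf x) (m x.1)) Finset.univ).trans ?_)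
    exact Finset.sum_congr rfl fun x _ => Finsupp.liftAddHom_apply_single _ _ _
  refine Eq.trans ?_ hsum.symm
  refine hom_ext_tau fun i x hx => ?_
  show evTau N e i x hx φ = evTau N e i x hx _
  rw [map_sum]
  have hp : x ∈ ({i} : Finset (Fin (n + 1))).inf (DX n R) := (inf_singleton_DX i).ge hx
  rw [evTau_eq_gsec φ i x hx hp, hS i]
  simp only [evTau_mulMono]
  conv_lhs => rw [← Finsupp.sum_single m, Finsupp.sum, map_sum, map_sum, ← Finset.sum_coe_sort m.support]
  exact Finset.sum_congr rfl fun y _ => monParam_single_eq y.1 _ (hpos y.1 y.2) (μOf y).1 (hμ y) _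

/-- The pairing with negative twists is perfect. -/
theorem rep_twist (t : Coh.HH P (O'(-((n : ℤ) + 1))) n →ₗ[R] R)
    (ht : ∀ m : Expo n (-((n : ℤ) + 1)) →₀ R, t (cls _ m) = m negOne) (j : ℕ) : Rep t (O'(-((n : ℤ) + 1 + j))) := by
  classical
  let D : ℤ := -((n : ℤ) + 1 + j)
  have hdeg : ∀ μ : {μ : Fin (n + 1) →₀ ℕ // μ.degree = j}, D + μ.1.degree = -((n : ℤ) + 1) := fun μ => by
    rw [μ.2]; simp [D]
  let y : {μ : Fin (n + 1) →₀ ℕ // μ.degree = j} → Expo n D := fun μ => ((negSetUnivEquiv n j).symm μ).1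
  have key : ∀ (μ ν : {μ : Fin (n + 1) →₀ ℕ // μ.degree = j}) (r c : R),
      theta t (O'(D)) (mulMono μ.1 r (hdeg μ)) (cls D (Finsupp.single (y ν) c)) = if μ = ν then r * c else 0 := by
    intro μ ν r c
    show t (hmap R _ n _) = _
    rw [map_cls, shiftL_single, ht, Finsupp.single_apply]
    refine if_congr ⟨fun h => ?_, fun h => ?_⟩ rfl rfl
    · refine Subtype.ext (Finsupp.ext fun i => ?_)
      have := congrFun (congrArg Subtype.val h) i
      change (-(ν.1 i : ℤ) - 1) + μ.1 i = -1 at this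
      omega
    · subst h
      refine Subtype.ext (funext fun i => ?_)
      show (-(μ.1 i : ℤ) - 1) + μ.1 i = -1
      ring
  have hval : ∀ (c : {μ : Fin (n + 1) →₀ ℕ // μ.degree = j} →₀ R) ν (a : R),
      theta t (O'(D)) (c.sum fun μ r => mulMono μ.1 r (hdeg μ)) (cls D (Finsupp.single (y ν) a)) = c ν * a := by
    intro c ν a
    rw [map_finsuppSum, Finsupp.sum, LinearMap.sum_apply]
    simp only [key]
    rw [Finset.sum_ite_eq']
    split_ifs with h
    · rfl
    · rw [Finsupp.notMem_support_iff.1 h, zero_mul]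
  refine ⟨(injective_iff_map_eq_zero _).2 fun φ hφ => ?_, fun ψ => ?_⟩
  · obtain ⟨c, hc⟩ : ∃ c : {μ : Fin (n + 1) →₀ ℕ // μ.degree = j} →₀ R,
        φ = c.sum fun μ r => mulMono μ.1 r (hdeg μ) := by
      have hgen : ∀ (D' : ℤ), D' = -(((n + 1 + j : ℕ) : ℤ)) → ∀ (φ : O'(D') ⟶ O'(-((n : ℤ) + 1)))
          (h : ∀ μ : {μ : Fin (n + 1) →₀ ℕ // μ.degree = j}, D' + μ.1.degree = -((n : ℤ) + 1)),
          ∃ c : {μ : Fin (n + 1) →₀ ℕ // μ.degree = j} →₀ R, φ = c.sum fun μ r => mulMono μ.1 r (h μ) := by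
        rintro _ rfl φ h
        exact exists_mulMono (by push_cast; ring) φ
      exact hgen D (by simp [D]) φ hdeg
    have h0 : c = 0 := Finsupp.ext fun ν => by
      have h1 := hval c ν 1
      rw [← hc, mul_one] at h1
      rw [← h1]
      exact LinearMap.congr_fun hφ _
    rw [hc, h0, Finsupp.sum_zero_index]
  · let c : {μ : Fin (n + 1) →₀ ℕ // μ.degree = j} →₀ R :=
      Finsupp.equivFunOnFinite.symm fun μ => ψ (cls D (Finsupp.single (y μ) 1))
    refine ⟨c.sum fun μ r => mulMono μ.1 r (hdeg μ), LinearMap.ext fun z => ?_⟩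
    obtain ⟨m, rfl⟩ := cls_surjective z
    induction m using Finsupp.induction_linear with
    | zero => rw [map_zero, map_zero, map_zero]
    | add a b ha hb => rw [map_add, map_add, map_add, ha, hb]
    | single x a =>
      by_cases hx : negSet x = Finset.univ
      · obtain ⟨ν, hν⟩ : ∃ ν, y ν = x :=
          ⟨negSetUnivEquiv n j ⟨x, hx⟩, congrArg Subtype.val ((negSetUnivEquiv n j).symm_apply_apply _)⟩
        subst hν
        rw [hval]
        show ψ (cls D (Finsupp.single (y ν) 1)) * a = _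
        rw [show Finsupp.single (y ν) a = a • Finsupp.single (y ν) (1 : R) by simp, cls_smul, map_smul, smul_eq_mul,
          mul_comm]
      · have hz : cls D (Finsupp.single x a) = (0 : Coh.HH P (O'(D)) n) := cls_of_support (fun x' hx' => by
          rw [Finset.mem_singleton.1 (Finsupp.support_single_subset hx')]; exact hx) (by simp [D]; omega)
        rw [hz, map_zero, map_zero]

end Groth.Agent.SerreDualA
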