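import Groth.Agent.SerreDualA.Trace
import Groth.Agent.SerreDual.Exist

/-!
# Existence of a quasi-coherent dualizing module over an affine base

The argument of `SerreDual.Exist`, with vanishing above the degree in question as the only hypothesis.
-/

set_option autoImplicit false
set_option linter.style.haveILetI false

universe u

open CategoryTheory CategoryTheory.Limits AlgebraicGeometry Opposite TopologicalSpace
open Groth.Agent.Coherent Groth.Agent.EulerLib
open Groth.Agent.SerreDual (preservesCoproducts_of_filtered preservesFilteredColimits_HH isLeftAdjoint_qcoh)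

namespace Groth.Agent.SerreDualA

variable (k : Type u) [CommRing k] (X : Scheme.{u}) [X.Over (Spec (CommRingCat.of k))]

/-- `H^d` on quasi-coherent modules, valued in vector spaces. -/
noncomputable def Hd (d : ℕ) : QCohCat.QCoh X ⥤ ModuleCat.{u} k where
  obj M := ModuleCat.of k (Coh.HH X M.obj d)
  map f := ModuleCat.ofHom (hmap k f.hom d)
  map_id M := congrArg ModuleCat.ofHom (hmap_id k M.obj d)
  map_comp f g := congrArg ModuleCat.ofHom (hmap_comp k f.hom g.hom d)

instance (d : ℕ) : (Hd k X d).Additive where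
  map_add {_ _ f g} := ModuleCat.hom_ext (hmap_add k f.hom g.hom d)

/-- `H^d` after forgetting the scalars. -/
noncomputable def HdIso (d : ℕ) : Hd k X d ⋙ forget₂ (ModuleCat.{u} k) AddCommGrpCat.{u} ≅
    (QCohCat.isQCoh X).ι ⋙ SheafOfModules.toSheaf.{u} X.ringCatSheaf ⋙
      Sheaf.functorH (Opens.grothendieckTopology X) d :=
  NatIso.ofComponents (fun M => Iso.refl _) fun {M N} f => by
    simp only [Iso.refl_hom]
    ext x
    exact hmap_eq k f.hom d x

variable [AlgebraicGeometry.IsNoetherian X] [X.IsSeparated]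

theorem exact_hmap_of_exact {d : ℕ} {S : ShortComplex X.Modules} (hS : S.Exact) (hg : Epi S.g)
    (hd : ∀ M : X.Modules, Coh.IsQCoh M → Subsingleton (Coh.HH X M (d + 1))) [Coh.IsQCoh S.X₁] [Coh.IsQCoh S.X₂] :
    Function.Exact (hmap k S.f d) (hmap k S.g d) ∧ Function.Surjective (hmap k S.g d) := by
  haveI := hg
  let ι := Abelian.image.ι S.f
  have hI : Coh.IsQCoh (Abelian.image S.f) := isQCoh_image S.f
  have hK : Coh.IsQCoh (kernel S.f) := isQCoh_kernel S.f
  let S₁ : ShortComplex X.Modules := ShortComplex.mk (kernel.ι S.f) (Abelian.factorThruImage S.f) (by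
    rw [← cancel_mono ι, Category.assoc, Abelian.image.fac, kernel.condition, zero_comp])
  have hS₁ : S₁.ShortExact :=
    { mono_f := inferInstanceAs (Mono (kernel.ι S.f))
      epi_g := inferInstanceAs (Epi (Abelian.factorThruImage S.f))
      exact := ShortComplex.exact_of_f_is_kernel _
        (isKernelOfComp (f := Abelian.factorThruImage S.f) ι S.f (kernelIsKernel S.f) S₁.zero (Abelian.image.fac S.f)) }
  let S₂ : ShortComplex X.Modules := ShortComplex.mk ι S.g (by
    rw [← cancel_epi (Abelian.factorThruImage S.f), ← Category.assoc, Abelian.image.fac, S.zero, comp_zero])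
  let φ : S ⟶ S₂ := { τ₁ := Abelian.factorThruImage S.f, τ₂ := 𝟙 _, τ₃ := 𝟙 _ }
  haveI : Epi φ.τ₁ := inferInstanceAs (Epi (Abelian.factorThruImage S.f))
  haveI : IsIso φ.τ₂ := inferInstanceAs (IsIso (𝟙 S.X₂))
  haveI : Mono φ.τ₃ := inferInstanceAs (Mono (𝟙 S.X₃))
  have hS₂ : S₂.ShortExact :=
    { exact := (ShortComplex.exact_iff_of_epi_of_isIso_of_mono φ).1 hS
      mono_f := inferInstanceAs (Mono (Abelian.image.ι S.f))
      epi_g := hg }
  have h1 : Function.Surjective (hmap k S₁.g d) :=
    hmap_surjective_of_shortExact k hS₁ d (hd (kernel S.f) hK)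
  have h2 : Function.Surjective (hmap k S₂.g d) :=
    hmap_surjective_of_shortExact k hS₂ d (hd (Abelian.image S.f) hI)
  refine ⟨?_, h2⟩
  have e : hmap k S.f d = hmap k S₂.f d ∘ₗ hmap k S₁.g d := by
    rw [← hmap_comp]
    exact congrArg (fun ψ => hmap k ψ d) (Abelian.image.fac S.f).symm
  intro x
  refine (exact_hmap k hS₂ d x).trans ?_
  rw [e, LinearMap.coe_comp, Set.range_comp, h1.range_eq, Set.image_univ]

theorem preservesColimits_Hd {d : ℕ} (hd : ∀ M : X.Modules, Coh.IsQCoh M → Subsingleton (Coh.HH X M (d + 1))) :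
    PreservesColimitsOfSize.{u, u} (Hd k X d) := by
  haveI : HasBinaryBiproducts (QCohCat.QCoh X) := HasBinaryBiproducts.of_hasBinaryCoproducts
  haveI : HasZeroObject (QCohCat.QCoh X) := hasZeroObject_of_hasInitial_object
  have hfil : ∀ (Λ : Type u) [SmallCategory Λ] [IsFiltered Λ], PreservesColimitsOfShape Λ (Hd k X d) := by
    intro Λ _ _
    haveI := preservesFilteredColimits_HH X Λ d
    haveI : PreservesColimitsOfShape Λ ((QCohCat.isQCoh X).ι ⋙ SheafOfModules.toSheaf.{u} X.ringCatSheaf ⋙
        Sheaf.functorH (Opens.grothendieckTopology X) d) :=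
      ⟨fun {K} => ⟨fun {c} hc => ⟨isColimitOfPreserves (SheafOfModules.toSheaf.{u} X.ringCatSheaf ⋙
        Sheaf.functorH (Opens.grothendieckTopology X) d) (isColimitOfPreserves (QCohCat.isQCoh X).ι hc)⟩⟩⟩
    haveI := preservesColimitsOfShape_of_natIso (J := Λ) (HdIso k X d).symm
    haveI : ReflectsColimitsOfShape Λ (forget₂ (ModuleCat.{u} k) AddCommGrpCat.{u}) :=
      reflectsColimitsOfShape_of_reflectsIsomorphisms
    exact preservesColimitsOfShape_of_reflects_of_preserves _ (forget₂ (ModuleCat.{u} k) AddCommGrpCat.{u})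
  haveI : ∀ {M N : QCohCat.QCoh X} (f : M ⟶ N), PreservesColimit (parallelPair f 0) (Hd k X d) := fun {M N} f => by
    haveI : Coh.IsQCoh M.obj := M.property
    haveI : Coh.IsQCoh N.obj := N.property
    refine preservesColimit_of_preserves_colimit_cocone (cokernelIsCokernel f) ?_
    refine (isColimitMapCoconeCoforkEquiv' (Hd k X d) (cokernel.condition f)).symm ?_
    let S : ShortComplex X.Modules := ShortComplex.mk f.hom (cokernel.π f).hom
      (congrArg (fun z => z.hom) (cokernel.condition f))
    have hS : S.Exact := S.exact_of_g_is_cokernel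
      (CokernelCofork.mapIsColimit _ (cokernelIsCokernel f) (QCohCat.isQCoh X).ι)
    haveI : Epi (cokernel.π f).hom := (QCohCat.isQCoh X).ι.map_epi (cokernel.π f)
    let T : ShortComplex (ModuleCat.{u} k) := ShortComplex.mk ((Hd k X d).map f) ((Hd k X d).map (cokernel.π f))
      (by rw [← Functor.map_comp, cokernel.condition, Functor.map_zero])
    obtain ⟨hT, hTg⟩ := exact_hmap_of_exact k X hS (inferInstanceAs (Epi (cokernel.π f).hom)) hd
    haveI : Epi T.g := (ModuleCat.epi_iff_surjective _).2 hTg
    exact ((ShortComplex.ShortExact.moduleCat_exact_iff_function_exact T).2 hT).gIsCokernel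
  haveI := (Hd k X d).preservesFiniteColimits_of_preservesCokernels
  haveI := fun α : Type u => preservesCoproducts_of_filtered (Hd k X d) hfil α
  haveI : PreservesColimitsOfShape WalkingParallelPair (Hd k X d) := inferInstance
  exact preservesColimits_of_preservesCoequalizers_and_coproducts _

/-- A quasi-coherent module with a trace representing the dual of top cohomology on all
quasi-coherent modules. -/
theorem exists_dualizing {d : ℕ} (hd : ∀ M : X.Modules, Coh.IsQCoh M → Subsingleton (Coh.HH X M (d + 1))) :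
    ∃ (ω : X.Modules) (t : Coh.HH X ω d →ₗ[k] k), Coh.IsQCoh ω ∧
      ∀ F : X.Modules, Coh.IsQCoh F → Rep t F := by
  haveI := preservesColimits_Hd k X hd
  haveI := isLeftAdjoint_qcoh X (Hd k X d)
  let adj := Adjunction.ofIsLeftAdjoint (Hd k X d)
  let K : ModuleCat.{u} k := ModuleCat.of k k
  let W : QCohCat.QCoh X := (Hd k X d).rightAdjoint.obj K
  refine ⟨W.obj, (adj.counit.app K).hom, W.property, fun F hF => ?_⟩
  let F' : QCohCat.QCoh X := ⟨F, hF⟩
  have key : ∀ φ : F' ⟶ W, theta (adj.counit.app K).hom F φ.hom = ((adj.homEquiv F' K).symm φ).hom := fun φ => by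
    rw [Adjunction.homEquiv_counit]
    rfl
  refine ⟨fun a b hab => ?_, fun ψ => ?_⟩
  · have h1 : (adj.homEquiv F' K).symm (ObjectProperty.homMk a) = (adj.homEquiv F' K).symm (ObjectProperty.homMk b) :=
      ModuleCat.hom_ext ((key (ObjectProperty.homMk a)).symm.trans (hab.trans (key (ObjectProperty.homMk b))))
    exact congrArg (fun z : F' ⟶ W => z.hom) ((adj.homEquiv F' K).symm.injective h1)
  · refine ⟨((adj.homEquiv F' K) (ModuleCat.ofHom (X := Coh.HH X F d) (Y := k) ψ)).hom, ?_⟩
    rw [key, Equiv.symm_apply_apply]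
    rfl

end Groth.Agent.SerreDualA
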