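import Groth.Agent.SerreDualA.Pairing
import Groth.Agent.SerreDualA.Exist
import Groth.Agent.SerreDual.Projective
import Groth.Agent.AmpleLib.CounitEpi

/-!
# Duality on projective schemes over a Noetherian ring
-/

set_option autoImplicit false
set_option linter.style.haveILetI false
set_option backward.isDefEq.respectTransparency.types false

universe u

open CategoryTheory CategoryTheory.Limits AlgebraicGeometry Opposite TopologicalSpace
open Groth.Agent.Coherent Groth.Agent.PicLib Groth.Agent.EulerLib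
open Groth.Agent.SerreDual (exists_coh_sub)

namespace Groth.Agent.SerreDualA

attribute [local instance] hhAddCommGroup hhModule

section

variable {k : Type u} [CommRing k] {X : Scheme.{u}} [X.Over (Spec (CommRingCat.of k))]
  [AlgebraicGeometry.IsNoetherian X] [X.IsSeparated] {d : ℕ}

/-- A module representing the dual of `H^d` on coherent modules represents it on all quasi-coherent ones. -/
theorem rep_qcoh_of_rep_coh (hd : ∀ M : X.Modules, Coh.IsQCoh M → Subsingleton (Coh.HH X M (d + 1)))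
    {ω : X.Modules} (hω : Coh.IsQCoh ω)
    {t : Coh.HH X ω d →ₗ[k] k} (h : ∀ F : X.Modules, Coh.IsCoh F → Rep t F) :
    ∀ F : X.Modules, Coh.IsQCoh F → Rep t F := by
  obtain ⟨ω', t', hq', h'⟩ := exists_dualizing k X hd
  haveI := hq'
  haveI := hω
  obtain ⟨ψ, hψ⟩ := (h' ω hω).2 t
  have hcomp : ∀ (G : X.Modules) (φ : G ⟶ ω), theta t' G (φ ≫ ψ) = theta t G φ := fun G φ => by
    rw [theta_comp, hψ]; rfl
  haveI : Mono ψ := by
    haveI : Coh.IsQCoh (kernel ψ) := isQCoh_kernel ψ
    refine Preadditive.mono_of_kernel_zero ?_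
    refine Scheme.Modules.hom_ext _ _ fun U => ConcreteCategory.hom_ext _ _ fun a => ?_
    obtain ⟨G, ι, -, hG, b, rfl⟩ := exists_coh_sub (M := kernel ψ) a
    have h0 : ι ≫ kernel.ι ψ = 0 := (h G hG).1 (by
      rw [← hcomp, Category.assoc, kernel.condition, comp_zero, map_zero, map_zero])
    exact ConcreteCategory.congr_hom (congrArg (fun φ => Scheme.Modules.Hom.app φ U) h0) b
  haveI : Epi ψ := by
    refine epi_of_locally_surjective ψ fun W a y hy => ⟨W, le_rfl, hy, ?_⟩
    obtain ⟨G, ι, -, hG, b, rfl⟩ := exists_coh_sub (M := ω') a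
    obtain ⟨ρ, hρ⟩ := (h G hG).2 (theta t' G ι)
    have he : ρ ≫ ψ = ι := (h' G hG.1).1 (by rw [hcomp]; exact hρ)
    refine ⟨ρ.app W b, ?_⟩
    rw [resM_self, ← he]
    rfl
  haveI : IsIso ψ := isIso_of_mono_of_epi _
  intro F hF
  have hb := h' F hF
  have key : theta t F = (fun φ : F ⟶ ω => theta t' F (φ ≫ ψ)) := funext fun φ => (hcomp F φ).symm
  show Function.Bijective (theta t F)
  rw [key]
  exact hb.comp ⟨fun a b e => (cancel_mono ψ).1 e, fun g => ⟨g ≫ inv ψ, by simp⟩⟩

omit [X.IsSeparated] in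
/-- Coherent modules are represented as soon as enough of them are. -/
theorem rep_coh_of_cover (hd : ∀ M : X.Modules, Coh.IsQCoh M → Subsingleton (Coh.HH X M (d + 1)))
    {ω : X.Modules} {t : Coh.HH X ω d →ₗ[k] k}
    (hcov : ∀ M : X.Modules, Coh.IsCoh M → ∃ (E : X.Modules) (p : E ⟶ M), Epi p ∧ Coh.IsCoh E ∧ Rep t E)
    {F : X.Modules} (hF : Coh.IsCoh F) : Rep t F := by
  haveI : Coh.IsQCoh F := hF.1
  obtain ⟨E, p, hp, hE, hrep⟩ := hcov F hF
  have hK : Coh.IsCoh (kernel p) := isCoh_kernel p hE hF.1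
  obtain ⟨E', p', hp', -, hrep'⟩ := hcov _ hK
  have hS : (ShortComplex.mk (kernel.ι p) p (kernel.condition p)).ShortExact :=
    { exact := ShortComplex.exact_of_f_is_kernel _ (kernelIsKernel p), mono_f := inferInstance, epi_g := hp }
  exact Rep.of_shortExact t hS (theta_injective_of_epi t p' hrep'.1) hrep (hd _ hK.1)

end

section ProjSpace

variable {n : ℕ} {R : Type u} [CommRing R] [IsNoetherianRing R]

local notation "P" => CohB1.ProjSpace n R
local notation "O'(" d ")" => Twist.twistProjSpace n R d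

theorem isNoetherian_projSpace : AlgebraicGeometry.IsNoetherian P := by
  haveI := isProper_projSpace_toSpec n R
  haveI : IsLocallyNoetherian P := LocallyOfFiniteType.isLocallyNoetherian (CohB1.ProjSpace.toSpec n R)
  haveI : CompactSpace P := QuasiCompact.compactSpace_of_compactSpace (CohB1.ProjSpace.toSpec n R)
  exact {}

/-- Coherent modules on projective space are represented. -/
theorem rep_coh (t : Coh.HH P (O'(-((n : ℤ) + 1))) n →ₗ[R] R)
    (ht : ∀ m : Expo n (-((n : ℤ) + 1)) →₀ R, t (cls _ m) = m negOne) {F : (P).Modules}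
    (hF : Coh.IsCoh F) : Rep t F := by
  haveI := hasFiniteBiproducts (P)
  haveI := isNoetherian_projSpace (n := n) (R := R)
  refine rep_coh_of_cover (fun M _ => subsingleton_HH_projSpace_of_lt M (n + 1) (Nat.lt_succ_self n))
    (fun M hM => ?_) hF
  haveI : Coh.IsQCoh M := hM.1
  obtain ⟨N₀, hN₀⟩ := (projPowCover n R).exists_epi hM
  obtain ⟨r, π, hπ⟩ := hN₀ (n + 1 + N₀) (by omega) _ (twistGens n R (n + 1 + N₀))
  haveI := isQCoh_twistProjSpace (n := n) (R := R) (-((n + 1 + N₀ : ℕ) : ℤ))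
  refine ⟨_, π, hπ, isCoh_biproduct _ fun _ => isCoh_of_gens (twistGens n R (n + 1 + N₀)),
    Rep.biproduct t fun _ => ?_⟩
  rw [show (-((n + 1 + N₀ : ℕ) : ℤ)) = -((n : ℤ) + 1 + N₀) by push_cast; ring]
  exact rep_twist t ht N₀

/-- Quasi-coherent modules on projective space are represented. -/
theorem rep_qcoh (t : Coh.HH P (O'(-((n : ℤ) + 1))) n →ₗ[R] R)
    (ht : ∀ m : Expo n (-((n : ℤ) + 1)) →₀ R, t (cls _ m) = m negOne) {F : (P).Modules}
    (hF : Coh.IsQCoh F) : Rep t F := by
  haveI := isNoetherian_projSpace (n := n) (R := R)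
  haveI : (P).IsSeparated := inferInstanceAs (Proj (CohB1.polyGrading n R)).IsSeparated
  exact rep_qcoh_of_rep_coh (fun M _ => subsingleton_HH_projSpace_of_lt M (n + 1) (Nat.lt_succ_self n))
    (isQCoh_twistProjSpace (n := n) (R := R) _) (fun G hG => rep_coh t ht hG) F hF

attribute [local instance] hasFiniteBiproducts in
/-- Coherent modules on a closed subscheme are quotients of sums of restricted twists. -/
theorem exists_epi_pullback {X : Scheme.{u}} (ι : X ⟶ P) [IsClosedImmersion ι] {M : X.Modules}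
    (hM : Coh.IsCoh M) : ∃ (N r : ℕ)
      (π : (⨁ fun _ : Fin r => (Scheme.Modules.pullback ι).obj (O'(-(N : ℤ)))) ⟶ M), Epi π := by
  haveI := isNoetherian_projSpace (n := n) (R := R)
  have hp : Coh.IsCoh ((Scheme.Modules.pushforward ι).obj M) := isCoh_push_finite ι hM
  haveI : Coh.IsQCoh ((Scheme.Modules.pushforward ι).obj M) := hp.1
  obtain ⟨N, hN⟩ := (projPowCover n R).exists_epi hp
  obtain ⟨r, π, hπ⟩ := hN N le_rfl _ (twistGens n R N)
  haveI := hπ
  let adj := Scheme.Modules.pullbackPushforwardAdjunction ι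
  haveI : Epi (adj.counit.app M) := by
    refine AmpleLib.epi_counit_of_globallyGenerated ι M fun x => ?_
    obtain ⟨V, hV, hxV, -⟩ := exists_isAffineOpen_mem_and_subset (x := ι x) (U := ⊤) trivial
    refine ⟨V, hxV, ?_⟩
    haveI : IsAffine (ι ⁻¹ᵁ V).toScheme := hV.preimage ι
    have hc := AmpleLib.isCoh_restrict (ι ⁻¹ᵁ V).ι M hM
    haveI : Coh.IsQCoh (M.restrict (ι ⁻¹ᵁ V).ι) := hc.1
    obtain ⟨I, _, p, hp⟩ := exists_epi_free_of_finite (M.restrict (ι ⁻¹ᵁ V).ι)
      (((isCoh_iff_finite_sections _).1 hc).2 ⊤ (isAffineOpen_top _))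
    exact ⟨I, p, hp⟩
  haveI : (Scheme.Modules.pullback ι).PreservesEpimorphisms :=
    Functor.preservesEpimorphisms_of_adjunction adj
  haveI : Epi ((Scheme.Modules.pullback ι).map π ≫ adj.counit.app M) := epi_comp _ _
  haveI : (Scheme.Modules.pullback ι).Additive := inferInstance
  exact ⟨N, r, ((Scheme.Modules.pullback ι).mapBiproduct fun _ : Fin r => O'(-(N : ℤ))).inv ≫
    ((Scheme.Modules.pullback ι).map π ≫ adj.counit.app M), epi_comp _ _⟩

end ProjSpace

end Groth.Agent.SerreDualA
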