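import Groth.Agent.Coherent.MonoCoh

/-!
# The top cohomology attached to monomial data, naturally

The constructions of `Coherent.MonoCoh`, keeping track of the parametrisations, and their
compatibility with morphisms of sheaves carrying monomials to monomials.
-/

set_option autoImplicit false
set_option linter.style.haveILetI false

universe u

open CategoryTheory CategoryTheory.Limits TopologicalSpace Opposite CategoryTheory.Abelian
open Groth.Agent.Coherent Groth.Agent.Coherent.MonoData

namespace Groth.Agent.SerreDualA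

variable {X : TopCat.{u}} {F : Sheaf (Opens.grothendieckTopology X) AddCommGrpCat.{u}} {ι : Type} [DecidableEq ι]
  {D : ι → Opens X} {R : Type u} [CommRing R] {E : Type} {N : E → Finset ι} (d : MonoData F D R N)

theorem exists_topData_singleton (a : ι) : ∃ t : TopData d {a} 0, ∀ (T : Finset ι) (hle : opn D {a} T ≤ (insert a T).inf D)
    (m : E →₀ R), t.Φ T m = resH F 0 hle (d.θ (insert a T) m) := by
  have hle : ∀ T : Finset ι, opn D {a} T ≤ (insert a T).inf D := fun T => by simp [opn]
  have hge : ∀ T : Finset ι, (insert a T).inf D ≤ opn D {a} T := fun T => by simp [opn]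
  have hsub : ∀ {T : Finset ι} {m : E →₀ R}, (∀ e ∈ m.support, N e ⊆ {a} ∪ T) →
      ∀ e ∈ m.support, N e ⊆ insert a T := fun hm e he => by
    rw [Finset.insert_eq]; exact hm e he
  refine ⟨⟨fun T => (resH F 0 (hle T)).comp (d.θ (insert a T)), ?_, ?_, ?_, ?_, ?_, ?_, ?_⟩, fun T _ m => rfl⟩
  · intro T _ x _
    obtain ⟨m, hm, hmx⟩ := d.surj (Finset.insert_nonempty a T) (resH F 0 (hge T) x)
    refine ⟨m, fun e he => by rw [← Finset.insert_eq]; exact hm e he, ?_⟩
    rw [AddMonoidHom.comp_apply, hmx, resH_isoOf]
  · intro T T' h m hm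
    rw [AddMonoidHom.comp_apply, AddMonoidHom.comp_apply, resH_resH,
      ← d.compat (Finset.insert_nonempty a T) (Finset.insert_subset_insert a h) m (hsub hm),
      resH_resH]
  · intro T m _ hm
    rw [AddMonoidHom.comp_apply, resH_eq_zero_iff (hle T) (hge T)]
    constructor
    · intro h
      rw [d.inj (Finset.insert_nonempty a T) m (hsub hm) h]
      intro e he
      simp at he
    · intro h
      have : m = 0 := Finsupp.support_eq_empty.1
        (Finset.eq_empty_of_forall_notMem fun e he => (lt_irrefl 0 (h e he).1))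
      rw [this, map_zero]
  · intro T _ q _ x
    rw [← resH_isoOf (hge T) (hle T) x,
      d.acyclic (Finset.insert_nonempty a T) q (resH F (q + 1) (hge T) x), map_zero]
  · intro _ T hT B
    obtain ⟨m, hm, rfl⟩ := d.surj hT B
    refine ⟨m, hm, ?_⟩
    rw [AddMonoidHom.comp_apply, ← d.compat hT (Finset.subset_insert a T) m hm, resH_resH]
  · intro _ T hT m hm
    refine ⟨d.θ T m, ?_⟩
    rw [AddMonoidHom.comp_apply, ← d.compat hT (Finset.subset_insert a T) m hm, resH_resH]
  · intro T r m hm
    rw [AddMonoidHom.comp_apply, AddMonoidHom.comp_apply, ← resH_postH,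
      d.act_θ (Finset.insert_nonempty a T) r m (hsub hm)]

theorem exists_topData_insert {S : Finset ι} {j : ι} {k : ℕ} (hj : j ∉ S) (hk : S.card = k + 1)
    (t : TopData d S k) : ∃ t' : TopData d (insert j S) (k + 1), ∀ (T : Finset ι)
      (h₁ : opn D (insert j S) T ≤ opn D S T ⊔ (insert j T).inf D)
      (h₂ : opn D S T ⊓ (insert j T).inf D ≤ opn D S (insert j T)) (m : E →₀ R),
      t'.Φ T m = resH F (k + 1) h₁ (deltaH F (opn D S T) ((insert j T).inf D) k
        (resH F k h₂ (t.Φ (insert j T) m))) := by
  classical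
  have e₁ : ∀ T : Finset ι, opn D (insert j S) T = opn D S T ⊔ (insert j T).inf D := opn_insert j S
  have e₂ : ∀ T : Finset ι, opn D S (insert j T) = opn D S T ⊓ (insert j T).inf D :=
    opn_insert_right j S
  have hmem : ∀ {T : Finset ι} {m : E →₀ R}, (∀ e ∈ m.support, N e ⊆ insert j S ∪ T) →
      ∀ e ∈ m.support, N e ⊆ S ∪ insert j T := fun hm e he => by
    refine (hm e he).trans (le_of_eq ?_)
    rw [Finset.insert_union, Finset.union_insert]
  let Φ : ∀ T : Finset ι, (E →₀ R) →+ Ext (freeSh (opn D (insert j S) T)) F (k + 1) := fun T =>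
    (resH F (k + 1) (e₁ T).le).comp ((deltaH F (opn D S T) ((insert j T).inf D) k).comp
      ((resH F k (e₂ T).ge).comp (t.Φ (insert j T))))
  have hΦ : ∀ T m, Φ T m = resH F (k + 1) (e₁ T).le (deltaH F (opn D S T) ((insert j T).inf D) k
      (resH F k (e₂ T).ge (t.Φ (insert j T) m))) := fun T m => rfl
  refine ⟨⟨Φ, ?_, ?_, ?_, ?_, fun h => absurd h k.succ_ne_zero, fun h => absurd h k.succ_ne_zero, ?_⟩, fun T _ _ m => hΦ T m⟩
  · intro T hdis x _
    obtain ⟨hjT, hST⟩ := Finset.disjoint_insert_left.1 hdis
    have hdis' : Disjoint S (insert j T) := Finset.disjoint_insert_right.2 ⟨hj, hST⟩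
    obtain ⟨w, hw⟩ := exists_deltaH (x := resH F (k + 1) (e₁ T).ge x)
      (t.vanish hST k (by omega) _) (d.acyclic (Finset.insert_nonempty j T) k _)
    rcases Nat.eq_zero_or_pos k with rfl | hk0
    · obtain ⟨m, hm, hmw⟩ := t.surj hdis' (resH F 0 (e₂ T).le w) (Or.inr (by omega))
      refine ⟨m, fun e he => ?_, ?_⟩
      · rw [Finset.insert_union, ← Finset.union_insert]; exact hm e he
      · rw [hΦ, hmw, resH_isoOf, hw, resH_isoOf]
    · obtain ⟨m, hm, hmw⟩ := t.surj hdis' (resH F k (e₂ T).le w) (Or.inl hk0)
      refine ⟨m, fun e he => ?_, ?_⟩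
      · rw [Finset.insert_union, ← Finset.union_insert]; exact hm e he
      · rw [hΦ, hmw, resH_isoOf, hw, resH_isoOf]
  · intro T T' h m hm
    have hjh : insert j T ⊆ insert j T' := Finset.insert_subset_insert j h
    rw [hΦ, hΦ, resH_resH, ← t.nat hjh m (hmem hm)]
    have := resH_deltaH (F := F) (U := opn D S T) (V := (insert j T).inf D) (U' := opn D S T')
      (V' := (insert j T').inf D) (opn_mono S h) (Finset.inf_mono hjh) k
      (resH F k (e₂ T).ge (t.Φ (insert j T) m))
    rw [resH_resH] at this
    rw [resH_resH, ← this, resH_resH]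
  · intro T m hdis hm
    obtain ⟨hjT, hST⟩ := Finset.disjoint_insert_left.1 hdis
    have hdis' : Disjoint S (insert j T) := Finset.disjoint_insert_right.2 ⟨hj, hST⟩
    rw [hΦ, resH_eq_zero_iff (e₁ T).le (e₁ T).ge]
    constructor
    · intro h
      obtain ⟨A, B, hAB⟩ := exists_of_deltaH_eq_zero h
      have hA : ∃ mA : E →₀ R, (∀ e ∈ mA.support, N e ⊆ S ∪ T) ∧ t.Φ T mA = A := by
        rcases Nat.eq_zero_or_pos k with rfl | hk0
        exacts [t.surj hST A (Or.inr (by omega)), t.surj hST A (Or.inl hk0)]
      obtain ⟨mA, hmA, rfl⟩ := hA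
      have hA' : ∀ e ∈ mA.support, N e ⊆ S ∪ insert j T := fun e he =>
        (hmA e he).trans (Finset.union_subset_union le_rfl (Finset.subset_insert j T))
      have hnat := t.nat (Finset.subset_insert j T) mA hmA
      have hAB' := congrArg (resH F k (e₂ T).le) hAB
      rw [resH_isoOf, map_sub, resH_resH, resH_resH, hnat] at hAB'
      intro e he
      refine ⟨Nat.succ_pos k, fun hsub => ?_⟩
      have hSe : S ⊆ N e := (Finset.subset_insert j S).trans hsub
      have hje : j ∈ N e := hsub (Finset.mem_insert_self j S)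
      have hAe : e ∉ mA.support := fun h' =>
        (Finset.mem_union.1 (hmA e h' hje)).elim hj hjT
      rcases Nat.eq_zero_or_pos k with rfl | hk0
      · obtain ⟨a, rfl⟩ := Finset.card_eq_one.1 (by omega : S.card = 1)
        obtain ⟨mB, hmB, hres0⟩ := t.baseTo rfl (Finset.insert_nonempty j T) B
        have hB' : ∀ x ∈ mB.support, N x ⊆ {a} ∪ insert j T := fun x hx =>
          (hmB x hx).trans Finset.subset_union_right
        have hres : resH F 0 (le_trans (e₂ T).le inf_le_right) B = t.Φ (insert j T) mB := hres0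
        rw [hres, ← map_sub] at hAB'
        have hs : ∀ x ∈ (mA - mB - m).support, N x ⊆ {a} ∪ insert j T := fun x hx => by
          rcases Finset.mem_union.1 (Finsupp.support_sub hx) with h₁ | h₁
          · rcases Finset.mem_union.1 (Finsupp.support_sub h₁) with h₂ | h₂
            exacts [hA' x h₂, hB' x h₂]
          · exact hmem hm x h₁
        have hz : mA - mB - m = 0 := by
          have := (t.ker _ hdis' hs).1 (by rw [map_sub, hAB', sub_self])
          exact Finsupp.support_eq_empty.1 (Finset.eq_empty_of_forall_notMem fun x hx =>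
            lt_irrefl 0 (this x hx).1)
        have hBe : e ∉ mB.support := fun h' => by
          have := hmB e h' (hSe (Finset.mem_singleton_self a))
          rcases Finset.mem_insert.1 this with rfl | h₁
          · exact hj (Finset.mem_singleton_self a)
          · exact Finset.disjoint_left.1 hST (Finset.mem_singleton_self a) h₁
        rw [Finsupp.mem_support_iff] at he
        have hval := DFunLike.congr_fun hz e
        simp only [Finsupp.sub_apply, Finsupp.notMem_support_iff.1 hAe,
          Finsupp.notMem_support_iff.1 hBe, Finsupp.coe_zero, Pi.zero_apply] at hval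
        exact he (by simpa using hval)
      · obtain ⟨q, rfl⟩ : ∃ q, k = q + 1 := ⟨k - 1, by omega⟩
        rw [d.acyclic (Finset.insert_nonempty j T) q B, map_zero, sub_zero] at hAB'
        have hs : ∀ x ∈ (mA - m).support, N x ⊆ S ∪ insert j T := fun x hx => by
          rcases Finset.mem_union.1 (Finsupp.support_sub hx) with h₁ | h₁
          exacts [hA' x h₁, hmem hm x h₁]
        refine ((t.ker _ hdis' hs).1 (by rw [map_sub, hAB', sub_self]) e ?_).2 hSe
        rw [Finsupp.mem_support_iff, Finsupp.sub_apply, Finsupp.notMem_support_iff.1 hAe, zero_sub,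
          neg_ne_zero]
        exact Finsupp.mem_support_iff.1 he
    · intro h
      let mA := m.filter fun e => j ∉ N e
      let mR := m.filter fun e => ¬ j ∉ N e
      have hdec : mA + mR = m := Finsupp.filter_add_filter_not m _
      have hmA : ∀ e ∈ mA.support, N e ⊆ S ∪ T := fun e he x hx => by
        rw [Finsupp.support_filter, Finset.mem_filter] at he
        have := hm e he.1 hx
        rw [Finset.insert_union, Finset.mem_insert] at this
        rcases this with rfl | h'
        exacts [absurd hx he.2, h']
      have hmR : ∀ e ∈ mR.support, N e ⊆ S ∪ insert j T ∧ ¬ S ⊆ N e := fun e he => by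
        rw [Finsupp.support_filter, Finset.mem_filter] at he
        exact ⟨hmem hm e he.1, fun hs => (h e he.1).2
          (Finset.insert_subset (not_not.1 he.2) hs)⟩
      rw [← hdec, map_add, map_add, ← t.nat (Finset.subset_insert j T) mA hmA, resH_resH, map_add]
      have hA0 : deltaH F (opn D S T) ((insert j T).inf D) k
          (resH F k inf_le_left (t.Φ T mA)) = 0 := by
        have := deltaH_sub_eq_zero (t.Φ T mA) (0 : Ext (freeSh ((insert j T).inf D)) F k)
        rwa [map_zero, sub_zero] at this
      rw [hA0, zero_add]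
      rcases Nat.eq_zero_or_pos k with rfl | hk0
      · obtain ⟨a, rfl⟩ := Finset.card_eq_one.1 (by omega : S.card = 1)
        have hB : ∀ e ∈ mR.support, N e ⊆ insert j T := fun e he x hx => by
          obtain ⟨h₁, h₂⟩ := hmR e he
          rcases Finset.mem_union.1 (h₁ hx) with h₃ | h₃
          · exact absurd (Finset.singleton_subset_iff.2 (Finset.mem_singleton.1 h₃ ▸ hx)) h₂
          · exact h₃
        obtain ⟨B, hres0⟩ := t.baseFrom rfl (Finset.insert_nonempty j T) mR hB
        have hres : resH F 0 inf_le_right B = resH F 0 (e₂ T).ge (t.Φ (insert j T) mR) := by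
          rw [← hres0, resH_resH]
        rw [← hres]
        have := deltaH_sub_eq_zero (0 : Ext (freeSh (opn D {a} T)) F 0) B
        rwa [map_zero, zero_sub, map_neg, neg_eq_zero] at this
      · rw [(t.ker mR hdis' fun e he => (hmR e he).1).2 fun e he => ⟨hk0, (hmR e he).2⟩,
          map_zero, map_zero]
  · intro T hdis q hq x
    obtain ⟨hjT, hST⟩ := Finset.disjoint_insert_left.1 hdis
    have hdis' : Disjoint S (insert j T) := Finset.disjoint_insert_right.2 ⟨hj, hST⟩
    have hra : resH F (q + 1) le_sup_left (resH F (q + 1) (e₁ T).ge x) = 0 := by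
      by_cases hqk : q + 1 = k
      · subst hqk
        obtain ⟨m, hm, hmx⟩ := t.surj hST (resH F (q + 1) le_sup_left
          (resH F (q + 1) (e₁ T).ge x)) (Or.inl q.succ_pos)
        have hm' : ∀ e ∈ m.support, N e ⊆ S ∪ insert j T := fun e he =>
          (hm e he).trans (Finset.union_subset_union le_rfl (Finset.subset_insert j T))
        have h0 : t.Φ (insert j T) m = 0 := by
          rw [← t.nat (Finset.subset_insert j T) m hm, hmx, resH_resH, resH_resH,
            ← resH_resH (h := (e₂ T).le.trans inf_le_right) (h' := le_trans le_sup_right (e₁ T).ge),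
            d.acyclic (Finset.insert_nonempty j T) q (resH F (q + 1) _ x), map_zero]
        rw [← hmx]
        exact (t.ker m hST hm).2 ((t.ker m hdis' hm').1 h0)
      · exact t.vanish hST q hqk _
    obtain ⟨w, hw⟩ := exists_deltaH hra (d.acyclic (Finset.insert_nonempty j T) q _)
    refine (resH_eq_zero_iff (e₁ T).ge (e₁ T).le x).1 ?_
    rw [← hw]
    rcases q with _ | q
    · obtain ⟨m, hm, hmi⟩ := d.exists_param (S := S) (by omega) (insert j T) hdis'
        (resH F 0 (e₂ T).le w)
      have hwb : w = resH F 0 inf_le_right (d.θ (insert j T) m) := by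
        rw [← sub_eq_zero]
        refine (resH_eq_zero_iff (e₂ T).le (e₂ T).ge _).1 ?_
        refine eq_zero_of_pieces S (insert j T) _ fun i hi => ?_
        rw [map_sub, map_sub, hmi i hi, resH_resH, resH_resH,
          d.compat (Finset.insert_nonempty j T) (Finset.subset_insert i _) m hm, sub_self]
      have := deltaH_sub_eq_zero (0 : Ext (freeSh (opn D S T)) F 0) (d.θ (insert j T) m)
      rw [map_zero, zero_sub, map_neg, neg_eq_zero] at this
      rw [hwb, this]
    · rw [← resH_isoOf (e₂ T).le (e₂ T).ge w,
        t.vanish hdis' q (by omega) (resH F (q + 1) (e₂ T).le w), map_zero, map_zero]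
  · intro T r m hm
    rw [hΦ, hΦ, ← resH_postH, postH_deltaH, ← resH_postH, t.linear r m (hmem hm)]

/-- A chosen parametrisation of the top degree. -/
noncomputable def topData : ∀ (k : ℕ) (S : Finset ι), S.card = k + 1 → TopData d S k
  | 0, S, hS =>
    (Finset.card_eq_one.1 hS).choose_spec ▸ (exists_topData_singleton d (Finset.card_eq_one.1 hS).choose).choose
  | k + 1, S, hS =>
    (Finset.card_eq_succ.1 hS).choose_spec.choose_spec.2.1 ▸
      (exists_topData_insert d (Finset.card_eq_succ.1 hS).choose_spec.choose_spec.1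
        (Finset.card_eq_succ.1 hS).choose_spec.choose_spec.2.2
        (topData k _ (Finset.card_eq_succ.1 hS).choose_spec.choose_spec.2.2)).choose

variable {G : Sheaf (Opens.grothendieckTopology X) AddCommGrpCat.{u}} {E' : Type} {N' : E' → Finset ι}
  (d' : MonoData G D R N')

theorem transport {S₁ S₂ : Finset ι} (h : S₁ = S₂) {k : ℕ} (ψ : F ⟶ G) (L : (E →₀ R) →+ (E' →₀ R))
    (t : TopData d S₁ k) (t' : TopData d' S₁ k)
    (h₀ : ∀ (T : Finset ι) (m : E →₀ R), (∀ e ∈ m.support, N e ⊆ S₁ ∪ T) →
      postH ψ k (opn D S₁ T) (t.Φ T m) = t'.Φ T (L m)) :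
    ∀ (T : Finset ι) (m : E →₀ R), (∀ e ∈ m.support, N e ⊆ S₂ ∪ T) →
      postH ψ k (opn D S₂ T) ((h ▸ t : TopData d S₂ k).Φ T m) = (h ▸ t' : TopData d' S₂ k).Φ T (L m) := by
  subst h
  exact h₀

/-- The parametrisations commute with morphisms carrying `θ` to `θ'`. -/
theorem topData_natural (ψ : F ⟶ G) (L : (E →₀ R) →+ (E' →₀ R))
    (hψ : ∀ A : Finset ι, A.Nonempty → ∀ m : E →₀ R, (∀ e ∈ m.support, N e ⊆ A) →
      postH ψ 0 (A.inf D) (d.θ A m) = d'.θ A (L m)) :
    ∀ (k : ℕ) (S : Finset ι) (hS : S.card = k + 1) (T : Finset ι) (m : E →₀ R),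
      (∀ e ∈ m.support, N e ⊆ S ∪ T) →
        postH ψ k (opn D S T) ((topData d k S hS).Φ T m) = (topData d' k S hS).Φ T (L m)
  | 0, S, hS => by
    rw [topData, topData]
    refine transport d d' (Finset.card_eq_one.1 hS).choose_spec.symm ψ L _ _ fun T m hm => ?_
    set a := (Finset.card_eq_one.1 hS).choose
    have hle : opn D {a} T ≤ (insert a T).inf D := by simp [opn]
    rw [(exists_topData_singleton d a).choose_spec T hle, (exists_topData_singleton d' a).choose_spec T hle,
      ← resH_postH, hψ _ (Finset.insert_nonempty a T) m fun e he => by rw [Finset.insert_eq]; exact hm e he]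
  | k + 1, S, hS => by
    rw [topData, topData]
    obtain ⟨hj, hS'S, hS'⟩ := (Finset.card_eq_succ.1 hS).choose_spec.choose_spec
    refine transport d d' hS'S ψ L _ _ fun T m hm => ?_
    set j := (Finset.card_eq_succ.1 hS).choose
    set S' := (Finset.card_eq_succ.1 hS).choose_spec.choose
    have h₁ := (opn_insert (D := D) j S' T).le
    have h₂ := (opn_insert_right (D := D) j S' T).ge
    rw [(exists_topData_insert d hj hS' (topData d k S' hS')).choose_spec T h₁ h₂,
      (exists_topData_insert d' hj hS' (topData d' k S' hS')).choose_spec T h₁ h₂, ← resH_postH, postH_deltaH,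
      ← resH_postH, topData_natural ψ L hψ k S' hS' (insert j T) m
        fun e he => (hm e he).trans (le_of_eq (by rw [Finset.insert_union, Finset.union_insert]))]

end Groth.Agent.SerreDualA
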